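import Mathlib
import Cfsg.Prelude.Def_GeometricClasses
import Cfsg.Agent.Lib.Helper27.ASC.Defs
import Cfsg.Agent.Lib.Helper19.ASG.Defs

/-!
# Project ASU (leader: helper19) : S5663, the subgroup structure of `SU_n(q)`, `n ≥ 3` (Aschbacher, containment form)

Shared vocabulary, on top of `Cfsg.Agent.Lib.Helper27.ASC` (`NormalIn`, `Irr`, `AbsIrr`, `centAlg`, `AllNormalAbsIrr`,
`MinNonscalar`) and `Cfsg.Agent.Lib.Helper19.ASG` (`Inv`):

* `InU n q H` : the goal, `H` lies in a member of the frozen `InUnitaryClass n F q`;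
* the eleven constructors `inU_of_*` (each takes `hI : H ≤ GU n F q` and `H ≤ (the stabiliser)`);
* `uadj q x = (xᵀ)^(q)` : the adjoint for `hermForm n F q` (API in `Cfsg.Agent.Lib.Helper19.ASUADJ`);
* `UMult F₀ P` : the elements of `P` are similitudes of `hermForm` with multipliers in the subfield `F₀`.
-/

set_option autoImplicit false

namespace Cfsg.Agent.Lib.Helper19.ASU

open Cfsg Cfsg.Geo Cfsg.Agent.Lib.Helper27.ASC Cfsg.Agent.Lib.Helper19.ASG
open scoped MatrixGroups Matrix Kronecker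

variable {n : ℕ} {F : Type*} [Field F]

/-- the adjoint for `hermForm n F q`: the conjugate transpose `(xᵀ)^(q)` -/
def uadj (q : ℕ) (x : Matrix (Fin n) (Fin n) F) : Matrix (Fin n) (Fin n) F :=
  (xᵀ).map (fun a => a ^ q)

/-- the elements of `P` are similitudes of `hermForm n F q` with multipliers in `F₀` -/
def UMult (q : ℕ) (F₀ : Subfield F) (P : Subgroup (GL (Fin n) F)) : Prop :=
  ∀ x ∈ P, ∃ c : F, c ∈ F₀ ∧ ∀ u v : Fin n → F,
    hermForm n F q ((x : Matrix (Fin n) (Fin n) F) *ᵥ u) ((x : Matrix (Fin n) (Fin n) F) *ᵥ v) =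
      c * hermForm n F q u v

variable [Fintype F]

/-- the goal: `H` lies in a member of the unitary class -/
def InU (n q : ℕ) (H : Subgroup (GL (Fin n) F)) : Prop :=
  ∃ M : Subgroup (GL (Fin n) F), InUnitaryClass n F q M ∧ H ≤ M

theorem inU_mono {q : ℕ} {H K : Subgroup (GL (Fin n) F)} (h : H ≤ K) (hK : InU n q K) : InU n q H := by
  obtain ⟨M, hM, hKM⟩ := hK
  exact ⟨M, hM, h.trans hKM⟩

section constructors

variable {q : ℕ} {H : Subgroup (GL (Fin n) F)}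

/-- class 1, totally singular subspace -/
theorem inU_of_ts (hI : H ≤ GU n F q) (W : Submodule F (Fin n → F)) (h0 : W ≠ ⊥)
    (hW : IsTotallySingularFor (hermForm n F q) W) (h : H ≤ subspaceStabilizer W) : InU n q H :=
  ⟨_, Or.inl (Or.inl ⟨W, h0, hW, rfl⟩), le_inf h hI⟩

/-- class 1, non-degenerate subspace of dimension less than `n / 2` -/
theorem inU_of_nd (hI : H ≤ GU n F q) (W : Submodule F (Fin n → F)) (h0 : W ≠ ⊥)
    (hW : IsNondegenerateOn (hermForm n F q) W) (hd : 2 * Module.finrank F W < n)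
    (h : H ≤ subspaceStabilizer W) : InU n q H :=
  ⟨_, Or.inl (Or.inr (Or.inl ⟨W, h0, hW, hd, rfl⟩)), le_inf h hI⟩

/-- class 2, non-degenerate decomposition -/
theorem inU_of_nddec (hI : H ≤ GU n F q) {t k : ℕ} (D : Fin t → Submodule F (Fin n → F))
    (hD : IsNondegenerateMDecomposition (hermForm n F q) k D) (h : H ≤ decompositionStabilizer D) :
    InU n q H :=
  ⟨_, Or.inl (Or.inr (Or.inr (Or.inl ⟨t, k, D, hD, rfl⟩))), le_inf h hI⟩

/-- class 2, pair of totally singular subspaces of dimension `n / 2` -/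
theorem inU_of_tspair (hI : H ≤ GU n F q) {k : ℕ} (D : Fin 2 → Submodule F (Fin n → F)) (hk : 2 * k = n)
    (hD : IsMDecomposition k D) (hts : ∀ i, IsTotallySingularFor (hermForm n F q) (D i))
    (h : H ≤ decompositionStabilizer D) : InU n q H :=
  ⟨_, Or.inl (Or.inr (Or.inr (Or.inr (Or.inl ⟨k, D, hk, hD, hts, rfl⟩)))), le_inf h hI⟩

/-- class 5, subfield of odd prime index -/
theorem inU_of_subfield_odd (hI : H ≤ GU n F q) (F₀ : Subfield F) {r : ℕ} (hr : r.Prime) (hodd : Odd r)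
    (hc : Fintype.card F = Nat.card F₀ ^ r) (P : GL (Fin n) F)
    (hrat : IsFormRationalStructure (hermForm n F q) F₀ 1 P) (h : H ≤ subfieldSubgroup F₀ P) : InU n q H :=
  ⟨_, Or.inl (Or.inr (Or.inr (Or.inr (Or.inr (Or.inl ⟨F₀, r, P, hr, hodd, hc, hrat, rfl⟩))))), le_inf h hI⟩

/-- class 5, subfield of index 2, orthogonal type (`q` odd) -/
theorem inU_of_subfield_orth (hI : H ≤ GU n F q) (F₀ : Subfield F) (hq : Odd q)
    (hc : Fintype.card F = Nat.card F₀ ^ 2) (P : GL (Fin n) F)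
    (hrat : IsFormRationalStructure (hermForm n F q) F₀ 1 P) (h : H ≤ subfieldSubgroup F₀ P) : InU n q H :=
  ⟨_, Or.inl (Or.inr (Or.inr (Or.inr (Or.inr (Or.inr (Or.inl ⟨F₀, P, hq, hc, hrat, rfl⟩)))))), le_inf h hI⟩

/-- class 5, subfield of index 2, symplectic type (`n` even) -/
theorem inU_of_subfield_symp (hI : H ≤ GU n F q) (F₀ : Subfield F) (he : Even n)
    (hc : Fintype.card F = Nat.card F₀ ^ 2) (P : GL (Fin n) F) (ζ : F) (hζ : ζ ≠ 0) (hζq : ζ + ζ ^ q = 0)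
    (hrat : IsFormRationalStructure (hermForm n F q) F₀ ζ P)
    (halt : ∀ u : Fin n → F, (∀ i, u i ∈ F₀) →
      hermForm n F q ((P : Matrix (Fin n) (Fin n) F) *ᵥ u) ((P : Matrix (Fin n) (Fin n) F) *ᵥ u) = 0)
    (h : H ≤ subfieldSubgroup F₀ P) : InU n q H :=
  ⟨_, Or.inl (Or.inr (Or.inr (Or.inr (Or.inr (Or.inr (Or.inr (Or.inl
    ⟨F₀, P, ζ, he, hc, hζ, hζq, hrat, halt, rfl⟩))))))), le_inf h hI⟩

/-- class 6, `r` odd -/
theorem inU_of_sympl_odd (hI : H ≤ GU n F q) {r : ℕ} (R : Subgroup (GL (Fin n) F)) {p e k : ℕ}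
    (hR : IsSymplecticTypeGroup r R) (hA : ActsAbsolutelyIrreducibly (matrixSet R))
    (hRf : R ≤ similarityGroup (hermForm n F q)) (hrp : r ≠ p)
    (hmin : IsMinimalFieldFor (Nat.card (Subgroup.center R)) p e F) (hodd : Odd r)
    (hz : Nat.card (Subgroup.center R) = r) (hk : 1 ≤ k) (hcard : Nat.card R = r ^ (1 + 2 * k))
    (h : H ≤ subgroupNormalizer R) : InU n q H :=
  ⟨_, Or.inl (Or.inr (Or.inr (Or.inr (Or.inr (Or.inr (Or.inr (Or.inr
    ⟨r, R, p, e, k, hR, hA, hRf, hrp, hmin, Or.inl ⟨hodd, hz, hk, hcard⟩, rfl⟩))))))), le_inf h hI⟩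

/-- class 6, `r = 2` -/
theorem inU_of_sympl_two (hI : H ≤ GU n F q) (R : Subgroup (GL (Fin n) F)) {p k : ℕ}
    (hR : IsSymplecticTypeGroup 2 R) (hA : ActsAbsolutelyIrreducibly (matrixSet R))
    (hRf : R ≤ similarityGroup (hermForm n F q)) (hrp : 2 ≠ p)
    (hmin : IsMinimalFieldFor (Nat.card (Subgroup.center R)) p 2 F)
    (hz : Nat.card (Subgroup.center R) = 4) (hcard : Nat.card R = 2 ^ (2 + 2 * k))
    (h : H ≤ subgroupNormalizer R) : InU n q H :=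
  ⟨_, Or.inl (Or.inr (Or.inr (Or.inr (Or.inr (Or.inr (Or.inr (Or.inr
    ⟨2, R, p, 2, k, hR, hA, hRf, hrp, hmin, Or.inr ⟨rfl, rfl, hz, hcard⟩, rfl⟩))))))), le_inf h hI⟩

/-- class 3, field of odd prime degree closed under adjoints -/
theorem inU_of_field (hI : H ≤ GU n F q) {r : ℕ} (hr : r.Prime) (hodd : Odd r)
    (K : Subalgebra F (Matrix (Fin n) (Fin n) F)) (hK : IsFieldSubalgebra r K)
    (hac : IsAdjointClosedFor (hermForm n F q) K) (h : H ≤ subalgebraNormalizer K) : InU n q H :=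
  ⟨_, Or.inr (Or.inl ⟨r, K, hr, hodd, hK, hac, rfl⟩), le_inf h hI⟩

/-- class 4 -/
theorem inU_of_tensor (hI : H ≤ GU n F q) {n₁ n₂ : ℕ} (e : Fin n ≃ Fin n₁ × Fin n₂) (P : GL (Fin n) F)
    (f₁ : (Fin n₁ → F) → (Fin n₁ → F) → F) (f₂ : (Fin n₂ → F) → (Fin n₂ → F) → F)
    (h1 : 2 ≤ n₁) (h2 : n₁ < n₂) (hf₁ : IsUnitaryFormPow q f₁) (hf₂ : IsUnitaryFormPow q f₂)
    (hT : IsTensorFormStructure (fun x : F => x ^ q) (hermForm n F q) f₁ f₂ e P)
    (h : H ≤ tensorProductSubgroup n₁ n₂ e P) : InU n q H :=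
  ⟨_, Or.inr (Or.inr (Or.inl ⟨n₁, n₂, e, P, f₁, f₂, h1, h2, hf₁, hf₂, hT, rfl⟩)), le_inf h hI⟩

/-- class 7 -/
theorem inU_of_tpower (hI : H ≤ GU n F q) {k t : ℕ} (e : Fin n ≃ (Fin t → Fin k)) (P : GL (Fin n) F)
    (f₁ : (Fin k → F) → (Fin k → F) → F) (hk : 3 ≤ k) (ht : 2 ≤ t) (hex : ¬ (q = 2 ∧ k = 3))
    (hf₁ : IsUnitaryFormPow q f₁)
    (hT : IsTensorPowerFormStructure (fun x : F => x ^ q) (hermForm n F q) f₁ e P)
    (h : H ≤ tensorWreathSubgroup k t e P) : InU n q H :=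
  ⟨_, Or.inr (Or.inr (Or.inr ⟨k, t, e, P, f₁, hk, ht, hex, hf₁, hT, rfl⟩)), le_inf h hI⟩

end constructors

end Cfsg.Agent.Lib.Helper19.ASU
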